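import Cfsg.Agent.H945.UF.PairU
import Cfsg.Agent.H371.P4.Tor

/-!
# S3461, sections of type `E₇`, `E₈`: tools (helper267)
-/

set_option autoImplicit false

universe u

namespace Cfsg.Agent.H267.UF

open Cfsg.Agent.H945.UF Cfsg.Agent.H378.ExcAdj Cfsg.Agent.H371.P4

/-- the numerical contradiction -/
theorem num {q M Y a b c : ℕ} (hY : 1536 ≤ Y) (h2 : q ^ 2 + 1 ≤ 2 * M) (hM : 3 * M ≤ 4 * Y) (ha : 2 * Y ≤ 3 * a)
    (hb : 2 * Y ≤ 3 * b) (hc : 2 * Y ≤ 3 * c) (h : a * b * c < q ^ 5) : False := by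
  have h1 : 8 * Y ^ 3 ≤ 27 * (a * b * c) := by
    calc 8 * Y ^ 3 = (2 * Y) * (2 * Y) * (2 * Y) := by ring
      _ ≤ (3 * a) * (3 * b) * (3 * c) := Nat.mul_le_mul (Nat.mul_le_mul ha hb) hc
      _ = _ := by ring
  have h3 : 3 * q ^ 2 ≤ 8 * Y := by omega
  have h4 : (3 * q ^ 2) ^ 5 ≤ (8 * Y) ^ 5 := Nat.pow_le_pow_left h3 5
  have h5 : (a * b * c) ^ 2 < (q ^ 5) ^ 2 := Nat.pow_lt_pow_left h two_ne_zero
  have h6 : (8 * Y ^ 3) ^ 2 ≤ (27 * (a * b * c)) ^ 2 := Nat.pow_le_pow_left h1 2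
  have h7 : 64 * (Y * Y ^ 5) < 98304 * Y ^ 5 := by
    calc 64 * (Y * Y ^ 5) = (8 * Y ^ 3) ^ 2 := by ring
      _ ≤ (27 * (a * b * c)) ^ 2 := h6
      _ = 729 * (a * b * c) ^ 2 := by ring
      _ < 729 * (q ^ 5) ^ 2 := by omega
      _ = 3 * (3 * q ^ 2) ^ 5 := by ring
      _ ≤ 3 * (8 * Y) ^ 5 := Nat.mul_le_mul_left _ h4
      _ = 98304 * Y ^ 5 := by ring
  have h8 : 1536 * Y ^ 5 ≤ Y * Y ^ 5 := Nat.mul_le_mul_right _ hY
  omega

variable {p q : ℕ} {S : Type u} [Group S]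

/-- `M` divides the order of the centralizers of the elements of prime order `r ∣ M` -/
theorem mm_dvd [Finite S] (h : CandU p q S) {N r : ℕ} (hrM : r ∣ mm q)
    (hc : ∀ x : S, orderOf x = r → Nat.card ↥(Subgroup.centralizer {x}) ∣ N) : mm q ∣ N := by
  obtain ⟨g, hg⟩ := h.elt'
  obtain ⟨k, hk⟩ := hrM
  have hR0 : 0 < mm q := h.mm_pos
  have hk0 : k ≠ 0 := by
    rintro rfl
    omega
  have hgk : orderOf (g ^ k) = r := by
    rw [orderOf_pow' g hk0, hg, Nat.gcd_eq_right (Dvd.intro_left r hk.symm), hk]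
    exact Nat.mul_div_cancel r (Nat.pos_of_ne_zero hk0)
  refine dvd_trans ?_ (hc _ hgk)
  rw [← hg]
  have hmem : g ∈ Subgroup.centralizer {g ^ k} := by
    rw [Subgroup.mem_centralizer_singleton_iff]
    exact (Commute.self_pow g k)
  rw [← Subgroup.orderOf_mk g hmem]
  exact orderOf_dvd_natCard _

/-- `M` is prime to the divisors of `v^m + 1`, if `v` has order `m` modulo the primes of `M` -/
theorem cop_plus (h : CandU p q S) {v m N : ℕ} (hv : 1 ≤ v) (hR : ∀ r : ℕ, r.Prime → r ∣ mm q → od v r ∣ m)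
    (hN : N ∣ v ^ m + 1) : Nat.Coprime N (mm q) := by
  refine Nat.coprime_of_dvd fun r hr h1 h2 => ?_
  have h3 : r ∣ v ^ m - 1 := by
    have := (H378.CycTab.dvd_iff (r := r) (q := v) m).2 (hR r hr h2)
    have h4 : ((v ^ m - 1 : ℕ) : ℤ) = (v : ℤ) ^ m - 1 := by
      rw [Nat.cast_sub (Nat.one_le_pow _ _ hv)]; push_cast; ring
    rw [← h4] at this
    exact Int.natCast_dvd_natCast.1 this
  have h4 := h1.trans hN
  have h5 : r ∣ 2 := by
    have h6 : v ^ m + 1 - (v ^ m - 1) = 2 := by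
      have := Nat.one_le_pow m v hv
      omega
    rw [← h6]
    exact Nat.dvd_sub h4 h3
  have h7 := (Nat.prime_dvd_prime_iff_eq hr Nat.prime_two).1 h5
  subst h7
  have := h.mm_odd
  omega

/-- two odd numbers dividing `v^m - 1`, `v^m + 1` -/
theorem cop_pm_odd {v m a b : ℕ} (hv : 1 ≤ v) (ha : a ∣ v ^ m - 1) (hb : b ∣ v ^ m + 1) (ho : ¬ 2 ∣ a) :
    Nat.Coprime a b := by
  refine Nat.coprime_of_dvd fun r hr h1 h2 => ?_
  have h5 : r ∣ 2 := by
    have h6 : v ^ m + 1 - (v ^ m - 1) = 2 := by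
      have := Nat.one_le_pow m v hv
      omega
    rw [← h6]
    exact Nat.dvd_sub (h2.trans hb) (h1.trans ha)
  have h7 := (Nat.prime_dvd_prime_iff_eq hr Nat.prime_two).1 h5
  subst h7
  exact ho h1

theorem dvd_pow_add_one {M v k : ℕ} {c : ℤ} (h : (v : ℤ) ^ k + 1 = M * c) : M ∣ v ^ k + 1 := by
  apply Int.natCast_dvd_natCast.1
  push_cast
  exact ⟨c, h⟩

/-- the final contradiction -/
theorem size (h : CandU p q S) {T Y a b c : ℕ} (hY : 1536 ≤ Y) (hT : mm q ∣ T) (hT0 : 0 < T) (hTY : 3 * T ≤ 4 * Y)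
    (ha : 2 * Y ≤ 3 * a) (hb : 2 * Y ≤ 3 * b) (hc : 2 * Y ≤ 3 * c) (ea : ∃ x : S, orderOf x = a)
    (eb : ∃ x : S, orderOf x = b) (ec : ∃ x : S, orderOf x = c) (ca : Nat.Coprime a (mm q))
    (cb : Nat.Coprime b (mm q)) (cc : Nat.Coprime c (mm q)) (cab : Nat.Coprime a b) (cac : Nat.Coprime a c)
    (cbc : Nat.Coprime b c) : False := by
  have h1 := Nat.le_of_dvd hT0 hT
  have h2 := h.two_mm
  exact num hY (by omega) hTY ha hb hc (h.triple ea eb ec ca cb cc cab cac cbc)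

/-- `M` is none of the small values -/
theorem mm_ne (h : CandU p q S) {c b : ℕ} (hc : mm q = c) (hb : b * b + 1 < 2 * c ∧ 2 * c < (b + 1) * (b + 1) + 1) :
    False := by
  have h2 := h.two_mm
  rw [hc] at h2
  have h3 : q * q = q ^ 2 := (sq q).symm
  exact not_sq (a := q) (b := b) (c := q * q) (by omega) (by omega) rfl

end Cfsg.Agent.H267.UF
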